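import Mathlib.Algebra.Category.ModuleCat.Localization
import Mathlib.Algebra.Category.ModuleCat.Projective
import Mathlib.Algebra.Category.ModuleCat.EnoughInjectives
import Mathlib.Algebra.Category.ModuleCat.Ext.HasExt
import Mathlib.Algebra.Homology.DerivedCategory.Ext.Map
import Mathlib.Algebra.Homology.DerivedCategory.Ext.ExactSequences
import Mathlib.Algebra.Homology.DerivedCategory.Ext.EnoughProjectives
import Mathlib.Algebra.Homology.DerivedCategory.Ext.Linear
import Mathlib.Algebra.Module.FinitePresentation
import Mathlib.RingTheory.LocalProperties.ProjectiveDimension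
import Mathlib.RingTheory.Noetherian.Basic

universe u

open CategoryTheory

namespace Groth.Agent.ExtLoc

variable {R : Type u} [CommRing R] (S : Submonoid R)

lemma map_smul_hom {M N : ModuleCat.{u} R} (a : R) (f : M ⟶ N) :
    (ModuleCat.localizedModuleFunctor.{u} S).map (a • f) =
      algebraMap R (Localization S) a • (ModuleCat.localizedModuleFunctor.{u} S).map f := by
  apply ModuleCat.hom_ext
  change IsLocalizedModule.mapExtendScalars S (M.localizedModuleMkLinearMap S)
      (N.localizedModuleMkLinearMap S) (Localization S) (a • f.hom) =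
    algebraMap R (Localization S) a • IsLocalizedModule.mapExtendScalars S
      (M.localizedModuleMkLinearMap S) (N.localizedModuleMkLinearMap S) (Localization S) f.hom
  rw [map_smul, algebraMap_smul]

lemma mapExt_smul {M N : ModuleCat.{u} R} {n : ℕ} (a : R) (e : Abelian.Ext M N n) :
    (ModuleCat.localizedModuleFunctor.{u} S).mapExtAddHom M N n (a • e) =
      algebraMap R (Localization S) a •
        (ModuleCat.localizedModuleFunctor.{u} S).mapExtAddHom M N n e := by
  have h : a • e = (Abelian.Ext.mk₀ (a • 𝟙 M)).comp e (zero_add n) := by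
    rw [Abelian.Ext.mk₀_smul, Abelian.Ext.smul_comp, Abelian.Ext.mk₀_id_comp]
  simp only [Functor.mapExtAddHom_apply, h, Abelian.Ext.mapExactFunctor_comp,
    Abelian.Ext.mapExactFunctor_mk₀]
  rw [map_smul_hom, CategoryTheory.Functor.map_id, Abelian.Ext.mk₀_smul,
    Abelian.Ext.smul_comp, Abelian.Ext.mk₀_id_comp]

lemma eq_zero_of_smul {M N : ModuleCat.{u} R} {n : ℕ} (e : Abelian.Ext M N n)
    (h : ∃ s : S, (s : R) • e = 0) :
    (ModuleCat.localizedModuleFunctor.{u} S).mapExtAddHom M N n e = 0 := by
  obtain ⟨s, hs⟩ := h
  have := mapExt_smul S (s : R) e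
  rw [hs, map_zero] at this
  exact ((IsLocalization.map_units (Localization S) s).smul_eq_zero).1 this.symm

theorem main [IsNoetherianRing R] (i : ℕ) :
    ∀ (M N : ModuleCat.{u} R), Module.Finite R M →
    (∀ y : Abelian.Ext ((ModuleCat.localizedModuleFunctor.{u} S).obj M)
        ((ModuleCat.localizedModuleFunctor.{u} S).obj N) i,
        ∃ (e : Abelian.Ext M N i) (s : S),
          algebraMap R (Localization S) (s : R) • y =
            (ModuleCat.localizedModuleFunctor.{u} S).mapExtAddHom M N i e) ∧
      (∀ e : Abelian.Ext M N i,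
        (ModuleCat.localizedModuleFunctor.{u} S).mapExtAddHom M N i e = 0 ↔
          ∃ s : S, (s : R) • e = 0) := by
  induction i with
  | zero =>
    intro M N hM
    refine ⟨fun y => ?_, fun e => ⟨fun h => ?_, eq_zero_of_smul S e⟩⟩
    · obtain ⟨(g : M.localizedModule S ⟶ N.localizedModule S), rfl⟩ :=
        (Abelian.Ext.mk₀_bijective _ _).2 y
      let g' : M →ₗ[R] N.localizedModule S :=
        { toFun := fun x => g (M.localizedModuleMkLinearMap S x)
          map_add' := fun x y => by rw [map_add]; exact map_add g.hom _ _
          map_smul' := fun a x => by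
            have h1 : M.localizedModuleMkLinearMap S (a • x) =
                algebraMap R (Localization S) a • M.localizedModuleMkLinearMap S x := by
              rw [map_smul, algebraMap_smul]
            rw [h1, RingHom.id_apply, ← algebraMap_smul (Localization S) a]
            exact map_smul g.hom _ _ }
      have : Module.FinitePresentation R M := Module.finitePresentation_of_finite R M
      obtain ⟨f, s, hs⟩ := Module.FinitePresentation.exists_lift_of_isLocalizedModule S
        (N.localizedModuleMkLinearMap S) g'
      refine ⟨Abelian.Ext.mk₀ (ModuleCat.ofHom f), s, ?_⟩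
      rw [Functor.mapExtAddHom_apply, Abelian.Ext.mapExactFunctor_mk₀]
      refine (Abelian.Ext.mk₀_smul _ _).symm.trans (congrArg Abelian.Ext.mk₀ ?_)
      change algebraMap R (Localization S) (s : R) • g =
        ModuleCat.localizedModuleMap S (ModuleCat.ofHom f)
      apply ModuleCat.hom_ext
      apply LinearMap.restrictScalars_injective R
      apply IsLocalizedModule.ext S (M.localizedModuleMkLinearMap S)
        (IsLocalizedModule.map_units (N.localizedModuleMkLinearMap S))
      ext x
      have hx := LinearMap.congr_fun hs x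
      change algebraMap R (Localization S) (s : R) • g (M.localizedModuleMkLinearMap S x) =
        IsLocalizedModule.map S (M.localizedModuleMkLinearMap S) (N.localizedModuleMkLinearMap S)
          f (M.localizedModuleMkLinearMap S x)
      rw [IsLocalizedModule.map_apply, algebraMap_smul]
      exact hx.symm
    · obtain ⟨f, rfl⟩ := (Abelian.Ext.mk₀_bijective M N).2 e
      rw [Functor.mapExtAddHom_apply, Abelian.Ext.mapExactFunctor_mk₀,
        Abelian.Ext.mk₀_eq_zero_iff] at h
      obtain ⟨T, hT⟩ := hM.fg_top
      classical
      have hz : ∀ x, ∃ t : S, t • f x = 0 := by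
        intro x
        refine (IsLocalizedModule.eq_zero_iff S (N.localizedModuleMkLinearMap S)).1 ?_
        have := LinearMap.congr_fun (congrArg ModuleCat.Hom.hom h) (M.localizedModuleMkLinearMap S x)
        change IsLocalizedModule.map S (M.localizedModuleMkLinearMap S)
          (N.localizedModuleMkLinearMap S) f.hom (M.localizedModuleMkLinearMap S x) = 0 at this
        rwa [IsLocalizedModule.map_apply] at this
      choose t ht using hz
      refine ⟨∏ x ∈ T, t x, ?_⟩
      rw [← Abelian.Ext.mk₀_smul, Abelian.Ext.mk₀_eq_zero_iff]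
      apply ModuleCat.hom_ext
      apply LinearMap.ext_on hT
      intro x hx
      change ((∏ x ∈ T, t x : S) : R) • f x = 0
      rw [← Finset.prod_erase_mul T t hx, Submonoid.coe_mul, mul_smul]
      rw [show (t x : R) • f x = 0 from ht x, smul_zero]
  | succ i ih =>
    intro M N hM
    obtain ⟨k, f, hf⟩ := Module.Finite.exists_fin' R M
    let T := f.shortComplexKer
    have hT : T.ShortExact := LinearMap.shortExact_shortComplexKer hf
    have hP : Projective T.X₂ :=
      (IsProjective.iff_projective (Fin k → R)).1 inferInstance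
    let F := ModuleCat.localizedModuleFunctor.{u} S
    have hT' : (T.map F).ShortExact := hT.map_of_exact F
    have hP' : Projective (T.map F).X₂ := F.projective_obj_of_projective hP
    have hfin1 : Module.Finite R T.X₁ :=
      inferInstanceAs (Module.Finite R (LinearMap.ker f))
    have hfin2 : Module.Finite R T.X₂ := inferInstanceAs (Module.Finite R (Fin k → R))
    obtain ⟨ihK, ihK0⟩ := ih T.X₁ N hfin1
    obtain ⟨ihF, -⟩ := ih T.X₂ N hfin2
    have hcomp : ∀ z : Abelian.Ext T.X₁ N i,
        F.mapExtAddHom M N (i + 1) (hT.extClass.comp z (add_comm 1 i)) =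
          hT'.extClass.comp (F.mapExtAddHom T.X₁ N i z) (add_comm 1 i) := by
      intro z
      simp only [Functor.mapExtAddHom_apply]
      rw [← Abelian.Ext.mapExactFunctor_extClass F hT]
      exact Abelian.Ext.mapExactFunctor_comp F hT.extClass z _
    refine ⟨fun y => ?_, fun e => ⟨fun h => ?_, eq_zero_of_smul S e⟩⟩
    · obtain ⟨x, hx⟩ := Abelian.Ext.contravariant_sequence_exact₃ hT' (F.obj N) y
        (Abelian.Ext.eq_zero_of_projective _) (add_comm 1 i)
      obtain ⟨e, s, hs⟩ := ihK x
      refine ⟨hT.extClass.comp e (add_comm 1 i), s, ?_⟩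
      rw [hcomp, ← hx]
      exact (Abelian.Ext.comp_smul hT'.extClass x (add_comm 1 i) _).symm.trans
        (congrArg (fun w => hT'.extClass.comp w (add_comm 1 i)) hs)
    · obtain ⟨z, hz⟩ := Abelian.Ext.contravariant_sequence_exact₃ hT N e
        (Abelian.Ext.eq_zero_of_projective _) (add_comm 1 i)
      rw [← hz, hcomp] at h
      obtain ⟨w, hw⟩ := Abelian.Ext.contravariant_sequence_exact₁ hT' (F.obj N) _ _ h
      obtain ⟨u, s, hs⟩ := ihF w
      have h0 : F.mapExtAddHom T.X₁ N i
          ((s : R) • z - (Abelian.Ext.mk₀ T.f).comp u (zero_add i)) = 0 := by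
        rw [map_sub, mapExt_smul, sub_eq_zero, ← hw]
        refine (Abelian.Ext.comp_smul _ w (zero_add i) _).symm.trans ?_
        refine (congrArg (fun v => (Abelian.Ext.mk₀ (T.map F).f).comp v (zero_add i)) hs).trans ?_
        simp only [Functor.mapExtAddHom_apply, Abelian.Ext.mapExactFunctor_comp,
          Abelian.Ext.mapExactFunctor_mk₀]
        rfl
      obtain ⟨t, ht⟩ := (ihK0 _).1 h0
      refine ⟨t * s, ?_⟩
      rw [smul_sub, sub_eq_zero, ← Abelian.Ext.comp_smul] at ht
      rw [Submonoid.coe_mul, mul_smul, ← hz, ← Abelian.Ext.comp_smul,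
        ← Abelian.Ext.comp_smul, ht, hT.extClass_comp_assoc]

end Groth.Agent.ExtLoc
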