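import Mathlib.AlgebraicGeometry.QuasiAffine
import Mathlib.RingTheory.Localization.Away.Basic
import Mathlib.RingTheory.Ideal.Quotient.Operations
import Mathlib.RingTheory.Spectrum.Prime.Topology

universe u

open CategoryTheory AlgebraicGeometry

namespace Groth.Agent.GluePts

variable {A A' : Type u} [CommRing A] [CommRing A'] (φ : A →+* A') (t : A)

theorem ext_glue
    (htor : ∀ a' : A', (∃ m : ℕ, φ t ^ m * a' = 0) → ∃! a : A, (∃ m : ℕ, t ^ m * a = 0) ∧ φ a = a')
    {a b : A} (h1 : φ a = φ b)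
    (h2 : algebraMap A (Localization.Away t) a = algebraMap A (Localization.Away t) b) : a = b := by
  obtain ⟨⟨_, m, rfl⟩, hc⟩ := (IsLocalization.eq_iff_exists (Submonoid.powers t) _).1 h2
  change t ^ m * a = t ^ m * b at hc
  obtain ⟨c, -, huniq⟩ := htor 0 ⟨0, by simp⟩
  have e1 := huniq (a - b) ⟨⟨m, by rw [mul_sub, hc, sub_self]⟩, by rw [map_sub, h1, sub_self]⟩
  have e2 := huniq 0 ⟨⟨0, by simp⟩, by simp⟩
  exact sub_eq_zero.1 (e1.trans e2.symm)

theorem exists_glue
    (hq : ∀ m : ℕ, Function.Bijective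
      (Ideal.quotientMap (Ideal.map φ (Ideal.span {t} ^ m)) φ Ideal.le_comap_map))
    (htor : ∀ a' : A', (∃ m : ℕ, φ t ^ m * a' = 0) → ∃! a : A, (∃ m : ℕ, t ^ m * a = 0) ∧ φ a = a')
    (a' : A') (z : Localization.Away t)
    (h : algebraMap A' (Localization.Away (φ t)) a' = Localization.awayMap φ t z) :
    ∃ a : A, φ a = a' ∧ algebraMap A (Localization.Away t) a = z := by
  obtain ⟨⟨a1, ⟨_, n, rfl⟩⟩, hz⟩ := IsLocalization.surj (Submonoid.powers t) z
  change z * algebraMap A _ (t ^ n) = algebraMap A _ a1 at hz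
  have h1 : algebraMap A' (Localization.Away (φ t)) (φ t ^ n * a') =
      algebraMap A' (Localization.Away (φ t)) (φ a1) := by
    have := congrArg (Localization.awayMap φ t) hz
    rw [map_mul, ← h, Localization.awayMap, IsLocalization.Away.map, IsLocalization.map_eq,
      IsLocalization.map_eq, map_pow, ← map_mul, mul_comm] at this
    exact this
  obtain ⟨⟨_, m, rfl⟩, hc⟩ := (IsLocalization.eq_iff_exists (Submonoid.powers (φ t)) _).1 h1
  change φ t ^ m * _ = φ t ^ m * _ at hc
  obtain ⟨τ, ⟨⟨i, hi⟩, hτ⟩, -⟩ := htor (φ a1 - φ t ^ n * a') ⟨m, by rw [mul_sub, hc, sub_self]⟩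
  have hmem : φ (a1 - τ) ∈ Ideal.map φ (Ideal.span {t} ^ n) := by
    rw [Ideal.span_singleton_pow, Ideal.map_span, Set.image_singleton, Ideal.mem_span_singleton',
      map_pow]
    exact ⟨a', by rw [map_sub, hτ]; ring⟩
  have hmem' : a1 - τ ∈ Ideal.span {t} ^ n := by
    rw [← Ideal.Quotient.eq_zero_iff_mem]
    apply (hq n).1
    rw [map_zero, Ideal.quotientMap_mk, Ideal.Quotient.eq_zero_iff_mem]
    exact hmem
  rw [Ideal.span_singleton_pow, Ideal.mem_span_singleton'] at hmem'
  obtain ⟨b, hb⟩ := hmem'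
  obtain ⟨σ, ⟨⟨j, hj⟩, hσ⟩, -⟩ := htor (φ b - a') ⟨n, by
    have := congrArg φ hb
    rw [map_mul, map_pow, map_sub, hτ] at this
    rw [mul_sub, mul_comm, this]; ring⟩
  refine ⟨b - σ, by rw [map_sub, hσ]; ring, ?_⟩
  have kill : ∀ (x : A) (k : ℕ), t ^ k * x = 0 → algebraMap A (Localization.Away t) x = 0 := by
    intro x k hx
    exact (IsLocalization.map_eq_zero_iff (Submonoid.powers t) _ x).2 ⟨⟨t ^ k, k, rfl⟩, hx⟩
  have hu : IsUnit (algebraMap A (Localization.Away t) (t ^ n)) :=
    IsLocalization.map_units _ (⟨t ^ n, n, rfl⟩ : Submonoid.powers t)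
  rw [map_sub, kill σ j hj, sub_zero, ← hu.mul_left_inj, hz, ← map_mul, hb, map_sub, kill τ i hi,
    sub_zero]

theorem main
    (hq : ∀ m : ℕ, Function.Bijective
      (Ideal.quotientMap (Ideal.map φ (Ideal.span {t} ^ m)) φ Ideal.le_comap_map))
    (htor : ∀ a' : A', (∃ m : ℕ, φ t ^ m * a' = 0) → ∃! a : A, (∃ m : ℕ, t ^ m * a = 0) ∧ φ a = a')
    (X : Scheme.{u}) [X.IsQuasiAffine] (p : X ⟶ Spec (CommRingCat.of A)) :
    (∀ s₁ s₂ : Spec (CommRingCat.of A) ⟶ X,
        Spec.map (CommRingCat.ofHom φ) ≫ s₁ = Spec.map (CommRingCat.ofHom φ) ≫ s₂ →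
        Spec.map (CommRingCat.ofHom (algebraMap A (Localization.Away t))) ≫ s₁ =
          Spec.map (CommRingCat.ofHom (algebraMap A (Localization.Away t))) ≫ s₂ →
        s₁ = s₂) ∧
    (∀ (x' : Spec (CommRingCat.of A') ⟶ X)
        (xt : Spec (CommRingCat.of (Localization.Away t)) ⟶ X),
        x' ≫ p = Spec.map (CommRingCat.ofHom φ) →
        xt ≫ p = Spec.map (CommRingCat.ofHom (algebraMap A (Localization.Away t))) →
        Spec.map (CommRingCat.ofHom (algebraMap A' (Localization.Away (φ t)))) ≫ x' =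
          Spec.map (CommRingCat.ofHom (Localization.awayMap φ t)) ≫ xt →
        ∃ s : Spec (CommRingCat.of A) ⟶ X, s ≫ p = 𝟙 _ ∧
          Spec.map (CommRingCat.ofHom φ) ≫ s = x' ∧
          Spec.map (CommRingCat.ofHom (algebraMap A (Localization.Away t))) ≫ s = xt) := by
  have hom_ext : ∀ {R : CommRingCat.{u}} (f g : Spec (CommRingCat.of A) ⟶ Spec R),
      Spec.map (CommRingCat.ofHom φ) ≫ f = Spec.map (CommRingCat.ofHom φ) ≫ g →
      Spec.map (CommRingCat.ofHom (algebraMap A (Localization.Away t))) ≫ f =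
        Spec.map (CommRingCat.ofHom (algebraMap A (Localization.Away t))) ≫ g → f = g := by
    intro R f g e1 e2
    rw [← Spec.map_preimage f, ← Spec.map_preimage g, ← Spec.map_comp, ← Spec.map_comp] at e1 e2
    rw [← Spec.map_preimage f, ← Spec.map_preimage g]
    congr 1
    ext r
    have a1 := congrArg (fun k => (CommRingCat.Hom.hom k) r) (Spec.map_injective e1)
    have a2 := congrArg (fun k => (CommRingCat.Hom.hom k) r) (Spec.map_injective e2)
    exact ext_glue φ t htor a1 a2
  refine ⟨fun s₁ s₂ e1 e2 => ?_, fun x' xt hx' hxt hc => ?_⟩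
  · rw [← cancel_mono X.toSpecΓ]
    exact hom_ext _ _ (by rw [reassoc_of% e1]) (by rw [reassoc_of% e2])
  · let f' := Spec.preimage (x' ≫ X.toSpecΓ)
    let ft := Spec.preimage (xt ≫ X.toSpecΓ)
    have hf' : Spec.map f' = x' ≫ X.toSpecΓ := Spec.map_preimage _
    have hft : Spec.map ft = xt ≫ X.toSpecΓ := Spec.map_preimage _
    have hcompat : f' ≫ CommRingCat.ofHom (algebraMap A' (Localization.Away (φ t))) =
        ft ≫ CommRingCat.ofHom (Localization.awayMap φ t) := by
      apply Spec.map_injective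
      rw [Spec.map_comp, Spec.map_comp, hf', hft, reassoc_of% hc]
    have hex : ∀ r, ∃ a : A, φ a = f'.hom r ∧ algebraMap A (Localization.Away t) a = ft.hom r :=
      fun r => exists_glue φ t hq htor _ _
        (congrArg (fun k => (CommRingCat.Hom.hom k) r) hcompat)
    choose g hg1 hg2 using hex
    let G : Γ(X, ⊤) →+* A :=
      { toFun := g
        map_one' := ext_glue φ t htor (by simp [hg1]) (by simp [hg2])
        map_zero' := ext_glue φ t htor (by simp [hg1]) (by simp [hg2])
        map_mul' := fun x y => ext_glue φ t htor (by simp [hg1]) (by simp [hg2])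
        map_add' := fun x y => ext_glue φ t htor (by simp [hg1]) (by simp [hg2]) }
    let s₀ : Spec (CommRingCat.of A) ⟶ Spec Γ(X, ⊤) := Spec.map (CommRingCat.ofHom G)
    have h1 : Spec.map (CommRingCat.ofHom φ) ≫ s₀ = x' ≫ X.toSpecΓ := by
      rw [← Spec.map_comp, ← hf']; congr 1; ext r; exact hg1 r
    have h2 : Spec.map (CommRingCat.ofHom (algebraMap A (Localization.Away t))) ≫ s₀ =
        xt ≫ X.toSpecΓ := by
      rw [← Spec.map_comp, ← hft]; congr 1; ext r; exact hg2 r
    have hrange : Set.range s₀ ⊆ Set.range X.toSpecΓ := by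
      rintro _ ⟨P, rfl⟩
      by_cases hP : t ∈ P.asIdeal
      · let P' : Ideal A := P.asIdeal
        have hPp : P'.IsPrime := P.isPrime
        have hle : Ideal.span {t} ^ 1 ≤ P' := by
          rw [pow_one, Ideal.span_le, Set.singleton_subset_iff]; exact hP
        let ψ := (Ideal.Quotient.factor hle).comp
          (RingEquiv.ofBijective _ (hq 1)).symm.toRingHom |>.comp
            (Ideal.Quotient.mk (Ideal.map φ (Ideal.span {t} ^ 1)))
        have hψ : ∀ a, ψ (φ a) = Ideal.Quotient.mk P' a := by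
          intro a
          have : (RingEquiv.ofBijective _ (hq 1)).symm
              (Ideal.Quotient.mk (Ideal.map φ (Ideal.span {t} ^ 1)) (φ a)) =
              Ideal.Quotient.mk _ a := by
            rw [RingEquiv.symm_apply_eq]; rfl
          simp only [ψ, RingHom.comp_apply]
          exact (congrArg (Ideal.Quotient.factor hle) this).trans (Ideal.Quotient.factor_mk hle a)
        let Q : PrimeSpectrum A' := ⟨RingHom.ker ψ, RingHom.ker_isPrime ψ⟩
        have hQ : Spec.map (CommRingCat.ofHom φ) Q = P := by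
          apply PrimeSpectrum.ext
          ext a
          show φ a ∈ RingHom.ker ψ ↔ a ∈ P'
          rw [RingHom.mem_ker, hψ, Ideal.Quotient.eq_zero_iff_mem]
        refine ⟨x' Q, ?_⟩
        rw [← hQ]
        exact (congrArg (fun k : Spec (CommRingCat.of A') ⟶ Spec Γ(X, ⊤) => k Q) h1).symm
      · obtain ⟨Q, hQ⟩ : P ∈ Set.range
            (PrimeSpectrum.comap (algebraMap A (Localization.Away t))) := by
          rw [PrimeSpectrum.localization_away_comap_range (Localization.Away t) t]; exact hP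
        have hQ' : Spec.map (CommRingCat.ofHom (algebraMap A (Localization.Away t))) Q = P := hQ
        refine ⟨xt Q, ?_⟩
        rw [← hQ']
        exact (congrArg (fun k : Spec (CommRingCat.of (Localization.Away t)) ⟶ Spec Γ(X, ⊤) => k Q) h2).symm
    let s := IsOpenImmersion.lift X.toSpecΓ s₀ hrange
    have hs : s ≫ X.toSpecΓ = s₀ := IsOpenImmersion.lift_fac _ _ _
    have e1 : Spec.map (CommRingCat.ofHom φ) ≫ s = x' := by
      rw [← cancel_mono X.toSpecΓ, Category.assoc, hs, h1]
    have e2 : Spec.map (CommRingCat.ofHom (algebraMap A (Localization.Away t))) ≫ s = xt := by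
      rw [← cancel_mono X.toSpecΓ, Category.assoc, hs, h2]
    refine ⟨s, hom_ext _ _ ?_ ?_, e1, e2⟩
    · rw [Category.comp_id, reassoc_of% e1, hx']
    · rw [Category.comp_id, reassoc_of% e2, hxt]

end Groth.Agent.GluePts
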