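import Mathlib.RingTheory.GradedAlgebra.HomogeneousLocalization
import Mathlib.RingTheory.FiniteType
import Mathlib.Algebra.Module.LocalizedModule.Basic
import Mathlib.Algebra.Module.GradedModule
import Mathlib.Algebra.Polynomial.Module.Basic
import Mathlib.Algebra.DirectSum.Decomposition
import Mathlib.RingTheory.Finiteness.Basic

universe u

open Polynomial

namespace Groth.Agent.GrModAway

theorem main (R R' : Type u) [CommRing R] [CommRing R']
    [Algebra R R']
    (M : Type u) [AddCommGroup M] [Module R' M] [Module R M] [IsScalarTower R R' M] [Module.Finite R' M]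
    (S : Type u) [CommRing S] [Algebra R S] (𝒜 : ℕ → Submodule R S) [GradedAlgebra 𝒜] (f : S) (hf : f ∈ 𝒜 1)
    (e : HomogeneousLocalization.Away 𝒜 f ≃+* R')
    (he : ∀ r : R, (e.symm (algebraMap R R' r)).val = algebraMap S (Localization.Away f) (algebraMap R S r)) :
    ∃ (N : Type u) (_ : AddCommGroup N) (_ : Module S N) (_ : Module R N) (_ : IsScalarTower R S N)
      (ℳ : ℕ → Submodule R N) (_ : DirectSum.Decomposition ℳ) (_ : SetLike.GradedSMul 𝒜 ℳ)
      (Nf : Submodule R (LocalizedModule (Submonoid.powers f) N)) (e' : ↥Nf ≃ₗ[R] M),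
      Module.Finite S N ∧
      (∀ x, x ∈ Nf ↔ ∃ k : ℕ, ∃ n ∈ ℳ k, f ^ k • x = LocalizedModule.mk n 1) ∧
      (∀ (a : HomogeneousLocalization.Away 𝒜 f) (x y : ↥Nf),
        a.val • (x : LocalizedModule (Submonoid.powers f) N) = y → e' y = e a • e' x) := by
  classical
  -- dehomogenisation
  have hdeg : ∀ (d : ℕ) (a : 𝒜 d), (a : S) ∈ 𝒜 (d • 1) := fun d a => by
    rw [smul_eq_mul, mul_one]; exact a.2
  let aw : ∀ d, 𝒜 d → HomogeneousLocalization.Away 𝒜 f := fun d a =>
    HomogeneousLocalization.Away.mk 𝒜 hf d (a : S) (hdeg d a)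
  have haw : ∀ d (a : 𝒜 d), (aw d a).val = Localization.mk (a : S) (⟨f ^ d, d, rfl⟩ : Submonoid.powers f) := fun d a => rfl
  have awadd : ∀ d (a b : 𝒜 d), aw d (a + b) = aw d a + aw d b := fun d a b => by
    apply HomogeneousLocalization.val_injective
    rw [HomogeneousLocalization.val_add, haw, haw, haw, Localization.add_mk_self]
    rfl
  let wd : ∀ d, 𝒜 d →+ R'[X] := fun d =>
    AddMonoidHom.mk' (fun a => monomial d (e (aw d a))) (fun a b => by rw [awadd, map_add, map_add])
  have hone : wd 0 (GradedMonoid.GOne.one (A := fun i => 𝒜 i)) = 1 := by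
    have : aw 0 (GradedMonoid.GOne.one (A := fun i => 𝒜 i)) = 1 := by
      apply HomogeneousLocalization.val_injective
      rw [haw, HomogeneousLocalization.val_one, ← Localization.mk_one]
      exact congrArg₂ Localization.mk rfl (Subtype.ext (pow_zero f))
    show monomial 0 (e (aw 0 (GradedMonoid.GOne.one (A := fun i => 𝒜 i)))) = 1
    rw [this, map_one, monomial_zero_one]
  have hmul : ∀ {i j : ℕ} (a : 𝒜 i) (b : 𝒜 j),
      wd (i + j) (GradedMonoid.GMul.mul (A := fun i => 𝒜 i) a b) = wd i a * wd j b := by
    intro i j a b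
    have : aw (i + j) (GradedMonoid.GMul.mul (A := fun i => 𝒜 i) a b) = aw i a * aw j b := by
      apply HomogeneousLocalization.val_injective
      rw [HomogeneousLocalization.val_mul, haw, haw, haw, Localization.mk_mul]
      exact congrArg₂ Localization.mk rfl (Subtype.ext (pow_add f i j))
    show monomial (i + j) (e (aw (i + j) _)) = monomial i (e (aw i a)) * monomial j (e (aw j b))
    rw [this, map_mul, monomial_mul_monomial]
  let φ : S →+* R'[X] :=
    (DirectSum.toSemiring wd hone hmul).comp (DirectSum.decomposeRingEquiv 𝒜).toRingHom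
  have hφ : ∀ d (a : 𝒜 d), φ a = monomial d (e (aw d a)) := fun d a => by
    show DirectSum.toSemiring wd hone hmul (DirectSum.decompose 𝒜 (a : S)) = _
    rw [DirectSum.decompose_coe, DirectSum.toSemiring_of]
    rfl
  have hφR : ∀ r : R, φ (algebraMap R S r) = C (algebraMap R R' r) := fun r => by
    rw [show (algebraMap R S r) = ((⟨algebraMap R S r, SetLike.algebraMap_mem_graded 𝒜 r⟩ : 𝒜 0) : S)
      from rfl, hφ, ← monomial_zero_left]
    congr 1
    have h1 : aw 0 ⟨algebraMap R S r, SetLike.algebraMap_mem_graded 𝒜 r⟩ =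
        e.symm (algebraMap R R' r) := by
      apply HomogeneousLocalization.val_injective
      rw [he, haw, ← Localization.mk_one_eq_algebraMap]
      exact congrArg₂ Localization.mk rfl (Subtype.ext (pow_zero f))
    rw [h1, e.apply_symm_apply]
  let θ : S →+* R' := (evalRingHom 1).comp φ
  have hθ : ∀ d (a : 𝒜 d), θ a = e (aw d a) := fun d a => by
    show (φ a).eval 1 = _
    rw [hφ, eval_monomial, one_pow, mul_one]
  have hθf : θ f = 1 := by
    rw [show f = ((⟨f, hf⟩ : 𝒜 1) : S) from rfl, hθ]
    rw [show aw 1 ⟨f, hf⟩ = 1 from HomogeneousLocalization.val_injective _ (by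
      rw [haw, HomogeneousLocalization.val_one, ← Localization.mk_self (⟨f, 1, pow_one f⟩ : Submonoid.powers f)]
      exact congrArg₂ Localization.mk rfl (Subtype.ext (pow_one f))), map_one]
  -- the module
  let _ : Module S (PolynomialModule R' M) := Module.compHom _ φ
  let _ : Module S M := Module.compHom _ θ
  have hSP : ∀ (s : S) (x : PolynomialModule R' M), s • x = φ s • x := fun _ _ => rfl
  have hSM : ∀ (s : S) (x : M), s • x = θ s • x := fun _ _ => rfl
  have hCsmul : ∀ (c : R') (x : PolynomialModule R' M), C c • x = c • x := fun c x => by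
    rw [C_eq_algebraMap, algebraMap_smul]
  have : IsScalarTower R S (PolynomialModule R' M) := ⟨fun r s x => by
    rw [hSP, hSP, Algebra.smul_def, map_mul, hφR, mul_smul, hCsmul, algebraMap_smul]⟩
  have : IsScalarTower R S M := ⟨fun r s x => by
    rw [hSM, hSM, Algebra.smul_def, map_mul, mul_smul]
    rw [show θ (algebraMap R S r) = algebraMap R R' r by
      show (φ _).eval 1 = _
      rw [hφR, eval_C], algebraMap_smul]⟩
  let Λ : PolynomialModule R' M →ₗ[R'] M := PolynomialModule.eval (1 : R')
  have hΛ : ∀ (p : R'[X]) (x : PolynomialModule R' M), Λ (p • x) = p.eval 1 • Λ x := fun p x =>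
    PolynomialModule.eval_smul p x 1
  have hΛ1 : ∀ d (m : M), Λ (PolynomialModule.single R' d m) = m := fun d m => by
    show PolynomialModule.eval (1 : R') (PolynomialModule.single R' d m) = m
    rw [PolynomialModule.eval_single, one_pow, one_smul]
  obtain ⟨G, hG⟩ := (inferInstance : Module.Finite R' M).fg_top
  let gens : Set (PolynomialModule R' M) := (fun m => PolynomialModule.single R' 0 m) '' (G : Set M)
  let N0 : Submodule S (PolynomialModule R' M) := Submodule.span S gens
  let ℳ : ℕ → Submodule R N0 := fun d =>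
    { carrier := {x | ∀ j, j ≠ d → (x : PolynomialModule R' M).coeff j = 0}
      add_mem' := fun {a b} ha hb j hj => by
        show ((a : PolynomialModule R' M) + (b : PolynomialModule R' M)).coeff j = 0
        rw [PolynomialModule.coeff_add, Finsupp.add_apply, ha j hj, hb j hj, add_zero]
      zero_mem' := fun j _ => rfl
      smul_mem' := fun r a ha j hj => by
        show r • (a : PolynomialModule R' M).coeff j = 0
        rw [ha j hj, smul_zero] }
  have hhom : ∀ {d : ℕ} {x : N0}, x ∈ ℳ d →
      (x : PolynomialModule R' M) = PolynomialModule.single R' d ((x : PolynomialModule R' M).coeff d) := by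
    intro d x hx
    apply PolynomialModule.ext
    refine Finsupp.ext fun j => ?_
    rw [PolynomialModule.coeff_single]
    by_cases hj : j = d
    · subst hj; rw [Finsupp.single_eq_same]
    · rw [hx j hj, Finsupp.single_eq_of_ne hj]
  have hgr : ∀ {i j : ℕ} {a : S} {x : N0}, a ∈ 𝒜 i → x ∈ ℳ j → a • x ∈ ℳ (i + j) := by
    intro i j a x ha hx k hk
    show (φ a • (x : PolynomialModule R' M)).coeff k = 0
    rw [hhom hx, show a = ((⟨a, ha⟩ : 𝒜 i) : S) from rfl, hφ, PolynomialModule.monomial_smul_single,
      PolynomialModule.coeff_single, Finsupp.single_eq_of_ne hk]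
  have htop : ⨆ d, ℳ d = ⊤ := by
    have hsmul : ∀ (s : S) (y : N0), y ∈ ⨆ d, ℳ d → s • y ∈ ⨆ d, ℳ d := by
      intro s y hy
      induction hy using Submodule.iSup_induction' with
      | mem j z hz =>
        rw [← DirectSum.sum_support_decompose 𝒜 s, Finset.sum_smul]
        exact Submodule.sum_mem _ fun i _ => Submodule.mem_iSup_of_mem (i + j) (hgr (SetLike.coe_mem _) hz)
      | zero => rw [smul_zero]; exact zero_mem _
      | add a b _ _ ha hb => rw [smul_add]; exact add_mem ha hb
    rw [eq_top_iff]
    rintro ⟨x, hx⟩ -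
    induction hx using Submodule.span_induction with
    | mem z hz =>
      refine Submodule.mem_iSup_of_mem 0 fun j hj => ?_
      obtain ⟨m, -, rfl⟩ := hz
      exact Finsupp.single_eq_of_ne hj
    | zero => exact zero_mem _
    | add a b _ _ ha hb => exact add_mem ha hb
    | smul s a ha iha => exact hsmul s ⟨a, ha⟩ iha
  have hind : iSupIndep ℳ := by
    intro d
    rw [disjoint_iff, eq_bot_iff]
    rintro x ⟨hx1, hx2⟩
    have h0 : (x : PolynomialModule R' M).coeff d = 0 := by
      have : ∀ y ∈ ⨆ (j : ℕ) (_ : j ≠ d), ℳ j, ((y : N0) : PolynomialModule R' M).coeff d = 0 := by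
        intro y hy
        induction hy using Submodule.iSup_induction' with
        | mem j z hz =>
          by_cases hj : j = d
          · rw [iSup_neg (by simpa using hj)] at hz
            rw [(Submodule.mem_bot R).1 hz]; rfl
          · rw [iSup_pos hj] at hz
            exact hz d (Ne.symm hj)
        | zero => rfl
        | add a b _ _ ha hb =>
          show ((a : PolynomialModule R' M) + (b : PolynomialModule R' M)).coeff d = 0
          rw [PolynomialModule.coeff_add, Finsupp.add_apply, ha, hb, add_zero]
      exact this x hx2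
    rw [Submodule.mem_bot]
    apply Subtype.ext
    rw [hhom hx1, h0, PolynomialModule.single_zero]
    rfl
  have dec : DirectSum.Decomposition ℳ :=
    (DirectSum.isInternal_submodule_of_iSupIndep_of_iSup_eq_top hind htop).chooseDecomposition
  have gsm : SetLike.GradedSMul 𝒜 ℳ := ⟨fun {i j a x} ha hx => hgr ha hx⟩
  let P := Submonoid.powers f
  let ΛN : N0 →ₗ[S] M :=
    { toFun := fun x => Λ (x : PolynomialModule R' M)
      map_add' := fun a b => map_add Λ _ _
      map_smul' := fun s a => by
        show Λ (φ s • (a : PolynomialModule R' M)) = θ s • Λ a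
        rw [hΛ]; rfl }
  have hunit : ∀ x : P, IsUnit (algebraMap S (Module.End S M) x) := by
    rintro ⟨_, k, rfl⟩
    convert isUnit_one
    ext m
    show θ (f ^ k) • m = m
    rw [map_pow, hθf, one_pow, one_smul]
  let Λf : LocalizedModule P N0 →ₗ[S] M := LocalizedModule.lift P ΛN hunit
  have hΛf : ∀ n : N0, Λf (LocalizedModule.mk n 1) = Λ (n : PolynomialModule R' M) := fun n =>
    LocalizedModule.lift_mk_one P ΛN hunit n
  have hΛfpow : ∀ (k : ℕ) (x : LocalizedModule P N0), Λf (f ^ k • x) = Λf x := fun k x => by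
    rw [map_smul, hSM, map_pow, hθf, one_pow, one_smul]
  let Nf : Submodule R (LocalizedModule P N0) :=
    { carrier := {x | ∃ k : ℕ, ∃ n ∈ ℳ k, f ^ k • x = LocalizedModule.mk n 1}
      add_mem' := by
        rintro a b ⟨k, n, hn, ha⟩ ⟨l, m, hm, hb⟩
        refine ⟨k + l, f ^ l • n + f ^ k • m, add_mem ?_ ?_, ?_⟩
        · rw [add_comm k l]
          exact hgr (by simpa using SetLike.pow_mem_graded l hf) hn
        · exact hgr (by simpa using SetLike.pow_mem_graded k hf) hm
        · have ha' := congrArg (fun z => f ^ l • z) ha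
          have hb' := congrArg (fun z => f ^ k • z) hb
          simp only [smul_smul, ← pow_add, LocalizedModule.smul'_mk] at ha' hb'
          rw [add_comm l k] at ha'
          rw [smul_add, ha', hb', LocalizedModule.mk_add_mk]
          simp
      zero_mem' := ⟨0, 0, zero_mem _, by simp⟩
      smul_mem' := by
        rintro r a ⟨k, n, hn, ha⟩
        refine ⟨k, r • n, (ℳ k).smul_mem r hn, ?_⟩
        rw [smul_comm, ha, LocalizedModule.smul'_mk] }
  have hinj : Function.Injective ((Λf.restrictScalars R).comp Nf.subtype) := by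
    rw [injective_iff_map_eq_zero]
    rintro ⟨x, k, n, hn, hx⟩ h0
    change Λf x = 0 at h0
    rw [← hΛfpow k, hx, hΛf, hhom hn, hΛ1] at h0
    have hn0 : n = 0 := Subtype.ext (by rw [hhom hn, h0, PolynomialModule.single_zero]; rfl)
    rw [hn0, LocalizedModule.zero_mk] at hx
    have hu : IsUnit (algebraMap S (Module.End S (LocalizedModule P N0)) (f ^ k)) :=
      IsLocalizedModule.map_units (LocalizedModule.mkLinearMap P N0) (⟨f ^ k, k, rfl⟩ : P)
    have : x = 0 := ((Module.End.isUnit_iff _).1 hu).1 (by rw [Module.algebraMap_end_apply, map_zero]; exact hx)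
    exact Subtype.ext this
  have hsurj : Function.Surjective ((Λf.restrictScalars R).comp Nf.subtype) := by
    have key : ∀ m : M, ∀ r : R', r • m ∈ LinearMap.range ((Λf.restrictScalars R).comp Nf.subtype) := by
      intro m
      have hm : m ∈ Submodule.span R' (G : Set M) := hG ▸ Submodule.mem_top
      induction hm using Submodule.span_induction with
      | mem g hg =>
        intro r
        obtain ⟨k, a, ha, hz⟩ := HomogeneousLocalization.Away.mk_surjective 𝒜 hf (e.symm r)
        have ha' : a ∈ 𝒜 k := by simpa using ha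
        let n : N0 := a • ⟨PolynomialModule.single R' 0 g, Submodule.subset_span ⟨g, hg, rfl⟩⟩
        have hn : n ∈ ℳ k := by
          have := hgr (i := k) (j := 0) ha' (x := ⟨PolynomialModule.single R' 0 g,
            Submodule.subset_span ⟨g, hg, rfl⟩⟩) (fun j hj => Finsupp.single_eq_of_ne hj)
          exact this
        refine ⟨⟨LocalizedModule.mk n ⟨f ^ k, k, rfl⟩, k, n, hn, ?_⟩, ?_⟩
        · rw [LocalizedModule.smul'_mk]
          exact LocalizedModule.mk_cancel (s := (⟨f ^ k, k, rfl⟩ : P)) (m := n)
        · show Λf (LocalizedModule.mk n ⟨f ^ k, k, rfl⟩) = r • g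
          rw [← hΛfpow k, LocalizedModule.smul'_mk]
          refine ((congrArg Λf (LocalizedModule.mk_cancel (s := (⟨f ^ k, k, rfl⟩ : P)) (m := n))).trans
            (hΛf n)).trans ?_
          show Λ (φ a • PolynomialModule.single R' 0 g) = _
          rw [hΛ, hΛ1]
          congr 1
          show θ ((⟨a, ha'⟩ : 𝒜 k) : S) = r
          rw [hθ, ← e.eq_symm_apply, ← hz]
      | zero => intro r; rw [smul_zero]; exact zero_mem _
      | add a b _ _ ha hb => intro r; rw [smul_add]; exact add_mem (ha r) (hb r)
      | smul c a _ ha => intro r; rw [smul_smul]; exact ha _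
    intro m
    simpa using key m 1
  refine ⟨N0, inferInstance, inferInstance, inferInstance, inferInstance, ℳ, dec, gsm, Nf,
    LinearEquiv.ofBijective _ ⟨hinj, hsurj⟩, ?_, fun x => Iff.rfl, ?_⟩
  · exact Module.Finite.iff_fg.2 (Submodule.fg_span (G.finite_toSet.image _))
  · intro a x y hxy
    obtain ⟨k, s, hs, rfl⟩ := HomogeneousLocalization.Away.mk_surjective 𝒜 hf a
    have hs' : s ∈ 𝒜 k := by simpa using hs
    show Λf (y : LocalizedModule P N0) = _ • Λf (x : LocalizedModule P N0)
    rw [← hxy, ← hΛfpow k]
    have : f ^ k • ((HomogeneousLocalization.Away.mk 𝒜 hf k s hs).val • (x : LocalizedModule P N0)) =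
        s • (x : LocalizedModule P N0) := by
      rw [← algebraMap_smul (Localization P) (f ^ k), smul_smul, HomogeneousLocalization.Away.val_mk,
        ← algebraMap_smul (Localization P) s (x : LocalizedModule P N0)]
      congr 1
      rw [← Localization.mk_one_eq_algebraMap, ← Localization.mk_one_eq_algebraMap, Localization.mk_mul,
        one_mul, Localization.mk_eq_mk_iff, Localization.r_iff_exists]
      exact ⟨1, by simp⟩
    rw [this, map_smul, hSM]
    exact congrArg (· • Λf (x : LocalizedModule P N0)) (hθ k ⟨s, hs'⟩)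

end Groth.Agent.GrModAway
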